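import Groth.Prelude.Def_CAlg2
import Mathlib.RingTheory.IntegralClosure.IntegrallyClosed
import Mathlib.RingTheory.Localization.LocalizationLocalization
import Mathlib.AlgebraicGeometry.AffineScheme

/-!
Normal local domains are geometrically unibranch.
-/

universe u

open AlgebraicGeometry

namespace Groth.Agent.UnivOpenFin5

/-- normal local domains are geometrically unibranch -/
theorem isGeomUnibranch_of_normal (A : Type u) [CommRing A] [IsLocalRing A] [IsDomain A] [IsIntegrallyClosed A] :
    CAlg2.IsGeomUnibranch A := by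
  have hbot : nilradical A = ⊥ := nilradical_eq_zero A
  let e : A ≃+* CAlg2.red A := (RingEquiv.quotientBot A).symm.trans (Ideal.quotEquivOfEq hbot.symm)
  haveI : IsDomain (CAlg2.red A) := e.symm.toMulEquiv.isDomain
  haveI : IsIntegrallyClosed (CAlg2.red A) := IsIntegrallyClosed.of_equiv e
  have hsurj : Function.Surjective (algebraMap (CAlg2.red A) (CAlg2.normRed A)) := by
    rintro ⟨z, hz⟩
    obtain ⟨y, hy⟩ := IsIntegrallyClosed.isIntegral_iff.1 hz
    exact ⟨y, Subtype.ext hy⟩
  haveI hloc : IsLocalRing (CAlg2.normRed A) :=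
    IsLocalRing.of_surjective' ((algebraMap (CAlg2.red A) (CAlg2.normRed A)).comp (Ideal.Quotient.mk (nilradical A)))
      (hsurj.comp Ideal.Quotient.mk_surjective)
  refine ⟨⟨inferInstance, hloc⟩, fun m' _ x => ⟨0, ?_⟩⟩
  rw [pow_zero, pow_one]
  exact (Ideal.Quotient.mk_surjective.comp (hsurj.comp Ideal.Quotient.mk_surjective)) x

/-- local rings of the spectrum of a normal domain -/
theorem isGeomUnibranch_stalk (B : CommRingCat.{u}) [IsDomain B] [IsIntegrallyClosed B] (n : Spec B) :
    CAlg2.IsGeomUnibranch ((Spec B).presheaf.stalk n) := by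
  haveI := n.2
  have hle : n.asIdeal.primeCompl ≤ nonZeroDivisors B := Ideal.primeCompl_le_nonZeroDivisors _
  let e : Localization.AtPrime n.asIdeal ≃+* (Spec B).presheaf.stalk n :=
    (Spec.stalkIso B n).commRingCatIsoToRingEquiv.symm
  haveI : IsDomain (Localization.AtPrime n.asIdeal) := IsLocalization.isDomain_localization hle
  haveI : IsIntegrallyClosed (Localization.AtPrime n.asIdeal) :=
    isIntegrallyClosed_of_isLocalization (R := B) _ n.asIdeal.primeCompl hle
  haveI : IsDomain ((Spec B).presheaf.stalk n) := e.symm.toMulEquiv.isDomain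
  haveI : IsIntegrallyClosed ((Spec B).presheaf.stalk n) := IsIntegrallyClosed.of_equiv e
  exact isGeomUnibranch_of_normal _

end Groth.Agent.UnivOpenFin5
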