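import Mathlib
import Groth.Agent.Lib.ResExt.Basic
import Groth.Agent.Lib.ResExt.Noeth
import Groth.Agent.Lib.CplLocH7.Basic

/-!
Complete discrete valuation rings with a prescribed residue field over a given one.
-/

universe u

open IsLocalRing

set_option linter.style.haveILetI false

namespace Groth.Agent.UnivOpenFin5

/-- a complete discrete valuation ring over `A` with residue field `K` -/
theorem exists_complete_dvr_ext (A : Type u) [CommRing A] [IsDomain A] [IsDiscreteValuationRing A] (K : Type u) [Field K]
    (χ : A →+* K) (hχ : RingHom.ker χ = maximalIdeal A) :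
    ∃ (A' : Type u) (_ : CommRing A') (_ : IsDomain A') (_ : IsDiscreteValuationRing A')
      (_ : IsAdicComplete (maximalIdeal A') A') (φ : A →+* A') (_ : IsLocalHom φ) (ψ : A' →+* K),
      Function.Injective φ ∧ Function.Surjective ψ ∧ RingHom.ker ψ = maximalIdeal A' ∧ ψ.comp φ = χ := by
  classical
  let χb : ResidueField A →+* K := Ideal.Quotient.lift (maximalIdeal A) χ fun a ha => hχ.ge ha
  letI := χb.toAlgebra
  obtain ⟨R', i1, i2, i3, i4, ψ₀, hflat, hmap, hsurj, hker, hcomm⟩ :=
    Groth.Agent.ResExt.exists_flat_local_extension (R := A) (K := K)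
  obtain ⟨hnoeth, hfl⟩ := Groth.Agent.ResExt.flat_adicCompletion (R' := R') hmap
  let M := maximalIdeal R'
  let C := AdicCompletion M R'
  have hfg : M.FG := by
    show (maximalIdeal R').FG
    rw [← hmap]; exact Ideal.FG.map (maximalIdeal A).fg_of_isNoetherianRing _
  haveI : IsLocalRing C := AdicCompletion.isLocalRing_of_fg hfg
  haveI : IsLocalHom (algebraMap R' C) := AdicCompletion.algebraMap_isLocalHom_of_fg hfg
  have hmC : maximalIdeal C = M.map (algebraMap R' C) := by
    have h1 : M.map (algebraMap R' C) = RingHom.ker (AdicCompletion.evalOneₐ M) :=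
      (AdicCompletion.ker_evalOneₐ_eq_map M hfg).symm
    haveI : (RingHom.ker (AdicCompletion.evalOneₐ M)).IsMaximal := by
      haveI : M.IsMaximal := maximalIdeal.isMaximal R'
      letI := Ideal.Quotient.field M
      exact RingHom.ker_isMaximal_of_surjective _ (AdicCompletion.evalOneₐ_surjective M)
    rw [h1]
    exact (IsLocalRing.eq_maximalIdeal ‹_›).symm
  haveI : IsAdicComplete (maximalIdeal C) C := by
    rw [hmC]
    exact (IsAdicComplete.map_algebraMap_iff _ _).2 (AdicCompletion.isAdicComplete hfg)
  haveI : IsLocalHom (algebraMap A C) := by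
    rw [IsScalarTower.algebraMap_eq A R' C]; infer_instance
  obtain ⟨π, hπ⟩ := IsDiscreteValuationRing.exists_irreducible A
  have hmπ : maximalIdeal C = Ideal.span {algebraMap A C π} := by
    rw [hmC, (congrArg (fun I => I.map (algebraMap R' C)) hmap.symm :
        M.map (algebraMap R' C) = ((maximalIdeal A).map (algebraMap A R')).map (algebraMap R' C)), Ideal.map_map,
      ← IsScalarTower.algebraMap_eq, hπ.maximalIdeal_eq, Ideal.map_span, Set.image_singleton]
  have hreg : ∀ c : C, algebraMap A C π * c = 0 → c = 0 := fun c hc => by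
    haveI := hfl
    haveI : Module.IsTorsionFree A C := inferInstance
    rw [← Algebra.smul_def] at hc
    exact (smul_eq_zero.1 hc).resolve_left hπ.ne_zero
  haveI := hnoeth
  have hpow : ∀ c : C, c ≠ 0 → ∃ (n : ℕ) (w : C), IsUnit w ∧ c = algebraMap A C π ^ n * w := by
    intro c hc
    have hne : ∃ n, c ∉ maximalIdeal C ^ n := by
      by_contra h
      push Not at h
      refine hc (Ideal.mem_bot.1 ?_)
      rw [← Ideal.iInf_pow_eq_bot_of_isLocalRing (maximalIdeal C) (maximalIdeal.isMaximal C).ne_top]
      exact Ideal.mem_iInf.2 h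
    obtain ⟨n, hn⟩ : ∃ n, Nat.find hne = n + 1 := Nat.exists_eq_succ_of_ne_zero fun h => by
      have := Nat.find_spec hne
      rw [h, pow_zero, Ideal.one_eq_top] at this
      exact this trivial
    have h1 : c ∈ maximalIdeal C ^ n := not_not.1 (Nat.find_min hne (by omega))
    rw [hmπ, Ideal.span_singleton_pow, Ideal.mem_span_singleton] at h1
    obtain ⟨w, hw⟩ := h1
    refine ⟨n, w, ?_, hw⟩
    by_contra hwu
    have h2 := Nat.find_spec hne
    rw [hn, hmπ, Ideal.span_singleton_pow, Ideal.mem_span_singleton, pow_succ, hw] at h2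
    have hwm : w ∈ maximalIdeal C := hwu
    rw [hmπ, Ideal.mem_span_singleton] at hwm
    exact h2 (mul_dvd_mul_left _ hwm)
  have hregn : ∀ (n : ℕ) (c : C), algebraMap A C π ^ n * c = 0 → c = 0 := by
    intro n
    induction n with
    | zero => intro c hc; simpa using hc
    | succ k ih => intro c hc; rw [pow_succ, mul_assoc] at hc; exact hreg c (ih _ hc)
  haveI : IsDomain C := by
    haveI : NoZeroDivisors C := ⟨fun {a b} h => by
      by_contra hab
      push Not at hab
      obtain ⟨n, v, hv, rfl⟩ := hpow a hab.1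
      rw [mul_assoc] at h
      exact hab.2 (hv.mul_right_eq_zero.1 (hregn n _ h))⟩
    exact NoZeroDivisors.to_isDomain C
  have hπC : algebraMap A C π ≠ 0 := fun h => one_ne_zero (hreg 1 (by rw [h, zero_mul]))
  have hnf : ¬ IsField C := fun hF => hπC (by
    have : algebraMap A C π ∈ maximalIdeal C := hmπ ▸ Ideal.mem_span_singleton_self _
    rwa [IsLocalRing.isField_iff_maximalIdeal_eq.1 hF] at this)
  haveI : IsDiscreteValuationRing C := ((IsDiscreteValuationRing.TFAE C hnf).out 4 0).mp
    (show Submodule.IsPrincipal (maximalIdeal C) from ⟨⟨_, hmπ⟩⟩)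
  let ψ : C →+* K := (((RingHom.quotientKerEquivOfSurjective hsurj).toRingHom.comp
    (Ideal.quotEquivOfEq hker.symm).toRingHom)).comp (AdicCompletion.evalOneₐ M).toRingHom
  have hψs : Function.Surjective ψ :=
    ((RingHom.quotientKerEquivOfSurjective hsurj).surjective.comp (Ideal.quotEquivOfEq hker.symm).surjective).comp
      (AdicCompletion.evalOneₐ_surjective M)
  refine ⟨C, inferInstance, inferInstance, inferInstance, inferInstance, algebraMap A C, inferInstance, ψ,
    fun a b h => ?_, hψs, IsLocalRing.eq_maximalIdeal (RingHom.ker_isMaximal_of_surjective ψ hψs),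
    RingHom.ext fun a => ?_⟩
  · have h0 : (a - b) • (1 : C) = 0 := by
      rw [Algebra.smul_def, mul_one, map_sub, h, sub_self]
    haveI := hfl
    haveI : Module.IsTorsionFree A C := inferInstance
    exact sub_eq_zero.1 ((smul_eq_zero.1 h0).resolve_right one_ne_zero)
  · show RingHom.quotientKerEquivOfSurjective hsurj (Ideal.quotEquivOfEq hker.symm
      (AdicCompletion.evalOneₐ M (algebraMap A C a))) = χ a
    have h1 : AdicCompletion.evalOneₐ M (algebraMap A C a) = Ideal.Quotient.mk M (algebraMap A R' a) := by
      rw [IsScalarTower.algebraMap_apply A R' C]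
      exact AlgHom.commutes _ _
    rw [h1]
    exact hcomm a

end Groth.Agent.UnivOpenFin5
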