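import Mathlib
import Groth.Agent.Lib.CplDomain.Nagata
import Groth.Agent.Lib.Unibr4.Core

/-!
Points of finite type schemes over a complete discrete valuation ring with values in finite extensions.
-/

universe u

open IsLocalRing

set_option linter.style.haveILetI false

namespace Groth.Agent.UnivOpenFin5

section Domain

variable {A D : Type u} [CommRing A] [IsDomain A] [IsDiscreteValuationRing A] [CommRing D] [IsDomain D] [Algebra A D]
  [Algebra.FiniteType A D] (m : Ideal D) [m.IsMaximal]

/-- a closed point all of whose nonzero generizations are in the closed fibre is quasi-finite -/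
theorem quasiFiniteAt_of_dvr (hinj : Function.Injective (algebraMap A D)) (hmA : m.comap (algebraMap A D) = maximalIdeal A)
    (hq : ∀ Q : Ideal D, Q.IsPrime → Q ≤ m → Q ≠ ⊥ → Q.comap (algebraMap A D) = maximalIdeal A) :
    Algebra.QuasiFiniteAt A m := by
  classical
  obtain ⟨π, hπ⟩ := IsDiscreteValuationRing.exists_irreducible A
  have hπm : π ∈ maximalIdeal A := hπ.maximalIdeal_eq ▸ Ideal.mem_span_singleton_self π
  haveI : IsNoetherianRing D := Algebra.FiniteType.isNoetherianRing A D
  let I : Ideal D := Ideal.span {algebraMap A D π}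
  have hIm : I ≤ m := (Ideal.span_singleton_le_iff_mem _).2 (by rw [← Ideal.mem_comap, hmA]; exact hπm)
  have hπ0 : algebraMap A D π ≠ 0 := fun h => hπ.ne_zero (hinj (h.trans (map_zero _).symm))
  have hfin : I.minimalPrimes.Finite := I.finite_minimalPrimes_of_isNoetherianRing _
  have hmin : m ∈ I.minimalPrimes := by
    obtain ⟨Q₀, hQ₀, hQ₀m⟩ := Ideal.exists_minimalPrimes_le (J := m) hIm
    by_contra hne
    let F := hfin.toFinset.filter fun Q => Q ≤ m
    obtain ⟨a, ham, ha⟩ : ∃ a ∈ m, ∀ Q ∈ F, a ∉ Q := by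
      by_contra hn
      push Not at hn
      have hsub : (m : Set D) ⊆ ⋃ Q ∈ (↑F : Set (Ideal D)), (Q : Set D) := fun a ha => by
        obtain ⟨Q, hQ, haQ⟩ := hn a ha
        exact Set.mem_iUnion₂.2 ⟨Q, hQ, haQ⟩
      obtain ⟨Q, hQ, hle⟩ := (Ideal.subset_union_prime (f := fun Q : Ideal D => Q) ⊥ ⊥ (fun Q hQ _ _ =>
        (hfin.mem_toFinset.1 (Finset.mem_filter.1 hQ).1).1.1)).1 hsub
      obtain ⟨hQI, hQm⟩ := Finset.mem_filter.1 hQ
      exact hne (le_antisymm hle hQm ▸ hfin.mem_toFinset.1 hQI)
    have ha0 : a ≠ 0 := fun h => ha Q₀ (Finset.mem_filter.2 ⟨hfin.mem_toFinset.2 hQ₀, hQ₀m⟩) (h ▸ zero_mem _)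
    obtain ⟨P, hP, hPm⟩ := Ideal.exists_minimalPrimes_le (J := m) ((Ideal.span_singleton_le_iff_mem _).2 ham)
    haveI := hP.1.1
    have haP : a ∈ P := hP.1.2 (Ideal.mem_span_singleton_self a)
    have hπP : algebraMap A D π ∈ P := by
      rw [← Ideal.mem_comap, hq P inferInstance hPm fun h => ha0 (by simpa [h] using haP)]
      exact hπm
    obtain ⟨Q₁, hQ₁, hQ₁P⟩ := Ideal.exists_minimalPrimes_le (J := P) ((Ideal.span_singleton_le_iff_mem _).2 hπP)
    haveI := hQ₁.1.1
    have haQ₁ := ha Q₁ (Finset.mem_filter.2 ⟨hfin.mem_toFinset.2 hQ₁, hQ₁P.trans hPm⟩)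
    have hlt : Q₁ < P := lt_of_le_of_ne hQ₁P fun h => haQ₁ (h ▸ haP)
    have h1 : Q₁.height < 1 := lt_of_lt_of_le (Ideal.height_strict_mono_of_isPrime hlt)
      (Ideal.height_le_one_of_isPrincipal_of_mem_minimalPrimes (Ideal.span {a}) P hP)
    rw [Order.lt_one_iff] at h1
    have h2 := hQ₁.1.2 (Ideal.mem_span_singleton_self (algebraMap A D π))
    rw [Ideal.height_eq_zero_iff_eq_bot.1 h1] at h2
    exact hπ0 (Ideal.mem_bot.1 h2)
  obtain ⟨e, hem, he⟩ : ∃ e ∉ m, ∀ Q ∈ I.minimalPrimes, Q ≠ m → e ∈ Q := by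
    have h : ¬ (hfin.toFinset.erase m).inf id ≤ m := fun h => by
      obtain ⟨Q, hQ, hQm⟩ := (Ideal.IsPrime.inf_le' (Ideal.IsMaximal.isPrime ‹m.IsMaximal›)).1 h
      obtain ⟨hne, hQI⟩ := Finset.mem_erase.1 hQ
      exact hne (le_antisymm hQm (hmin.2 (hfin.mem_toFinset.1 hQI).1 hQm))
    obtain ⟨e, he, hem⟩ := SetLike.not_le_iff_exists.1 h
    exact ⟨e, hem, fun Q hQ hne => (Finset.inf_le (f := id) (Finset.mem_erase.2 ⟨hne, hfin.mem_toFinset.2 hQ⟩)) he⟩
  refine Algebra.QuasiFiniteAt.of_isOpen_singleton_fiber (R := A) (⟨m, inferInstance⟩ : PrimeSpectrum D) ?_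
  refine isOpen_induced_iff.2 ⟨PrimeSpectrum.basicOpen e, (PrimeSpectrum.basicOpen e).isOpen, ?_⟩
  ext ⟨P, hP⟩
  refine ⟨fun heP => Subtype.ext (PrimeSpectrum.ext ?_), ?_⟩
  · haveI := P.2
    have hPA : P.asIdeal.comap (algebraMap A D) = maximalIdeal A := (congrArg PrimeSpectrum.asIdeal hP).trans hmA
    obtain ⟨Q, hQ, hQP⟩ := Ideal.exists_minimalPrimes_le (I := I) (J := P.asIdeal)
      ((Ideal.span_singleton_le_iff_mem _).2 (by rw [← Ideal.mem_comap, hPA]; exact hπm))
    obtain rfl : Q = m := by_contra fun hne => heP (hQP (he Q hQ hne))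
    exact (Ideal.IsMaximal.eq_of_le ‹Q.IsMaximal› P.2.ne_top hQP).symm
  · intro h
    obtain rfl : P = ⟨m, inferInstance⟩ := congrArg Subtype.val h
    exact hem

end Domain

/-- a point of a finite type algebra over a complete discrete valuation ring lifts to a finite extension -/
theorem exists_dvr_point (A : Type u) [CommRing A] [IsDomain A] [IsDiscreteValuationRing A]
    [IsAdicComplete (maximalIdeal A) A] (S : Type u) [CommRing S] [Algebra A S] [Algebra.FiniteType A S]
    (m : Ideal S) [m.IsMaximal] (hmA : m.comap (algebraMap A S) = maximalIdeal A)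
    (P : Ideal S) [P.IsPrime] (hPm : P ≤ m) (hP : P.comap (algebraMap A S) = ⊥) :
    ∃ (B : Type u) (_ : CommRing B) (_ : IsDomain B) (_ : IsDiscreteValuationRing B) (φ : A →+* B)
      (_ : IsLocalHom φ) (ψ : S →+* B),
      φ.Finite ∧ ψ.comp (algebraMap A S) = φ ∧ (maximalIdeal B).comap ψ = m := by
  classical
  haveI : IsNoetherianRing S := Algebra.FiniteType.isNoetherianRing A S
  obtain ⟨q, ⟨hqp, hPq, hqm, hqA⟩, hmax⟩ := set_has_maximal_iff_noetherian.2 (inferInstance : IsNoetherian S S)
    {Q : Ideal S | Q.IsPrime ∧ P ≤ Q ∧ Q ≤ m ∧ Q.comap (algebraMap A S) = ⊥} ⟨P, ‹_›, le_rfl, hPm, hP⟩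
  haveI := hqp
  let D := S ⧸ q
  let mk := Ideal.Quotient.mk q
  let mD : Ideal D := m.map mk
  have hmD : mD.comap mk = m := by
    rw [Ideal.comap_map_of_surjective _ Ideal.Quotient.mk_surjective, ← RingHom.ker_eq_comap_bot, Ideal.mk_ker,
      sup_eq_left.2 hqm]
  haveI : mD.IsMaximal := by
    rcases Ideal.map_eq_top_or_isMaximal_of_surjective mk Ideal.Quotient.mk_surjective ‹m.IsMaximal› with h | h
    · exact absurd (by rw [← hmD, show mD = ⊤ from h, Ideal.comap_top]) (Ideal.IsMaximal.ne_top ‹m.IsMaximal›)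
    · exact h
  have hinj : Function.Injective (algebraMap A D) := by
    rw [RingHom.injective_iff_ker_eq_bot, show algebraMap A D = mk.comp (algebraMap A S) from rfl,
      ← RingHom.comap_ker, Ideal.mk_ker, hqA]
  have hmDA : mD.comap (algebraMap A D) = maximalIdeal A := by
    rw [show algebraMap A D = mk.comp (algebraMap A S) from rfl, ← Ideal.comap_comap, hmD, hmA]
  have hqD : ∀ Q : Ideal D, Q.IsPrime → Q ≤ mD → Q ≠ ⊥ → Q.comap (algebraMap A D) = maximalIdeal A := by
    intro Q hQ hQm hQ0
    by_contra hne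
    have hbot : Q.comap (algebraMap A D) = ⊥ := by
      haveI := Ideal.IsPrime.comap (algebraMap A D) (hK := hQ)
      by_contra h0
      exact hne (IsLocalRing.eq_maximalIdeal (Ideal.IsPrime.isMaximal inferInstance h0))
    have hle : q ≤ Q.comap mk := by
      conv_lhs => rw [← Ideal.mk_ker (I := q)]
      exact Ideal.ker_le_comap _
    refine hmax (Q.comap mk) ⟨Ideal.IsPrime.comap mk, hPq.trans hle, (Ideal.comap_mono hQm).trans hmD.le, ?_⟩
      (lt_of_le_of_ne hle fun h => hQ0 ?_)
    · rw [Ideal.comap_comap]; exact hbot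
    · rw [← Ideal.map_comap_of_surjective mk Ideal.Quotient.mk_surjective Q, ← h, Ideal.map_quotient_self]
  haveI := quasiFiniteAt_of_dvr mD hinj hmDA hqD
  obtain ⟨C, hCfg, r, hr, hbij⟩ :=
    Algebra.QuasiFiniteAt.exists_fg_and_exists_notMem_and_awayMap_bijective (R := A) mD
  haveI : Module.Finite A C := ⟨(Submodule.fg_top _).mpr hCfg⟩
  haveI : Algebra.IsIntegral A C := Algebra.IsIntegral.of_finite A C
  have hC : ∀ d : D, ∃ (n : ℕ) (c : C), (c : D) = r.1 ^ n * d := fun d => by
    obtain ⟨n, c, hc⟩ := Hens.exists_pow_mul_mem_of_bijective_awayMap C.val.toRingHom r hbij.2 d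
    exact ⟨n, c, hc.symm⟩
  let L := FractionRing D
  haveI : FaithfulSMul A L := (faithfulSMul_iff_algebraMap_injective A L).2 (by
    rw [IsScalarTower.algebraMap_eq A D L]
    exact (IsFractionRing.injective D L).comp hinj)
  let K := FractionRing A
  letI : Algebra K L := FractionRing.liftAlgebra A L
  have hr0 : r.1 ≠ 0 := fun h => hr (h ▸ zero_mem _)
  have hCint : ∀ c : C, IsIntegral A (algebraMap D L c) := fun c =>
    IsIntegral.map (IsScalarTower.toAlgHom A D L) ((Algebra.IsIntegral.isIntegral (R := A) c).map C.val)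
  haveI : FiniteDimensional K L := by
    have hfg : (C.toSubmodule.map (IsScalarTower.toAlgHom A D L).toLinearMap).FG := hCfg.map _
    obtain ⟨s, hs⟩ := hfg
    refine Module.Finite.of_fg_top ?_
    let M : IntermediateField K L := IntermediateField.adjoin K (s : Set L)
    haveI : FiniteDimensional K M := IntermediateField.finiteDimensional_adjoin (S := (s : Set L)) fun b hb => by
      have hb' : b ∈ Submodule.span A (s : Set L) := Submodule.subset_span hb
      rw [hs] at hb'
      obtain ⟨c, hc, rfl⟩ := hb'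
      exact (hCint ⟨c, hc⟩).tower_top
    have hCM : ∀ c : C, algebraMap D L c ∈ M := fun c => by
      have hc : algebraMap D L c ∈ Submodule.span A (s : Set L) := by
        rw [hs]; exact ⟨c, c.2, rfl⟩
      exact Submodule.span_le (p := (M.toSubalgebra.restrictScalars A).toSubmodule).2
        (fun b hb => IntermediateField.subset_adjoin K _ hb) hc
    have hD : ∀ d : D, algebraMap D L d ∈ M := fun d => by
      obtain ⟨n, c, hc⟩ := hC d
      have h0 : algebraMap D L r.1 ^ n ≠ 0 := pow_ne_zero _ ((map_ne_zero_iff _ (IsFractionRing.injective D L)).2 hr0)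
      rw [show algebraMap D L d = (algebraMap D L r.1 ^ n)⁻¹ * algebraMap D L c by
        rw [hc, map_mul, map_pow, inv_mul_cancel_left₀ h0]]
      exact mul_mem (inv_mem (pow_mem (hCM r) n)) (hCM c)
    have hM : M.toSubalgebra.toSubmodule = ⊤ := eq_top_iff.2 fun w _ => by
      obtain ⟨a, b, hb, rfl⟩ := IsFractionRing.div_surjective (A := D) w
      show algebraMap D L a / algebraMap D L b ∈ M
      exact div_mem (hD a) (hD b)
    rw [← hM]
    exact Module.Finite.iff_fg.1 ‹_›
  let B := integralClosure A L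
  haveI : Module.Finite A B := CplDomain.isN2_of_complete A L inferInstance
  haveI : IsNoetherianRing B := IsNoetherianRing.of_finite A B
  haveI : IsIntegrallyClosed B := integralClosure.isIntegrallyClosedOfFiniteExtension K
  haveI : Algebra.IsIntegral A B := Algebra.IsIntegral.of_finite A B
  haveI : Ring.DimensionLEOne B := Ring.DimensionLEOne.of_isIntegral A B
  haveI : IsDedekindDomain B := { }
  obtain ⟨_, -⟩ := CplDomain.completeLocal_of_finite A B
  have hinjB : Function.Injective (algebraMap A B) := fun a b h =>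
    FaithfulSMul.algebraMap_injective A L (congrArg Subtype.val h)
  have hmB : (maximalIdeal B).comap (algebraMap A B) = maximalIdeal A :=
    IsLocalRing.eq_maximalIdeal (Ideal.isMaximal_comap_of_isIntegral_of_isMaximal (R := A) (maximalIdeal B))
  haveI hloc : IsLocalHom (algebraMap A B) := ⟨fun a ha => by_contra fun hna =>
    (hmB.ge hna : algebraMap A B a ∈ maximalIdeal B) ha⟩
  have hnf : ¬ IsField B := fun hF =>
    IsDiscreteValuationRing.not_isField A (isField_of_isIntegral_of_isField hinjB hF)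
  haveI : IsDiscreteValuationRing B :=
    ((IsDiscreteValuationRing.TFAE B hnf).out 2 0).mp (show IsDedekindDomain B from inferInstance)
  let ι : C →+* B := ((algebraMap D L).comp C.val.toRingHom).codRestrict B.toSubring hCint
  have hmC : (maximalIdeal B).comap ι = mD.comap C.val.toRingHom := by
    have hι : Function.Injective ι := fun a b h =>
      Subtype.ext (IsFractionRing.injective D L (congrArg Subtype.val h))
    letI : Algebra C B := ι.toAlgebra
    haveI : IsScalarTower A C B := IsScalarTower.of_algebraMap_eq fun a => Subtype.ext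
      (IsScalarTower.algebraMap_apply A D L a)
    haveI : Algebra.IsIntegral C B := ⟨fun b => (Algebra.IsIntegral.isIntegral (R := A) b).tower_top⟩
    let mC : Ideal C := mD.comap C.val.toRingHom
    haveI : mC.IsPrime := Ideal.IsPrime.comap _
    obtain ⟨Q, -, hQ, hQC⟩ := Ideal.exists_ideal_over_prime_of_isIntegral mC (⊥ : Ideal B) (by
      intro x hx
      obtain rfl : x = 0 := hι ((Ideal.mem_bot.1 hx).trans (map_zero ι).symm)
      exact zero_mem _)
    have hQA : Q.comap (algebraMap A B) = maximalIdeal A := by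
      rw [IsScalarTower.algebraMap_eq A C B, ← Ideal.comap_comap, hQC, Ideal.comap_comap]
      exact hmDA
    haveI : Q.IsMaximal := Ideal.isMaximal_of_isIntegral_of_isMaximal_comap (R := A) Q
      (by rw [hQA]; infer_instance)
    obtain rfl : Q = maximalIdeal B := IsLocalRing.eq_maximalIdeal ‹_›
    exact hQC
  have hrB : IsUnit (ι r) := by
    by_contra hn
    exact hr (hmC.le (show r ∈ (maximalIdeal B).comap ι from hn))
  have hmem : ∀ d : D, algebraMap D L d ∈ B := fun d => by
    obtain ⟨n, c, hc⟩ := hC d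
    obtain ⟨u, hu⟩ := hrB.pow n
    have h0 : ((↑u⁻¹ : B) : L) * algebraMap D L r.1 ^ n = 1 := by
      have h1 : ((↑u⁻¹ : B) * ι r ^ n : B) = 1 := by rw [← hu]; exact u.inv_mul
      simpa [ι] using congrArg Subtype.val h1
    have h2 : algebraMap D L d = ((↑u⁻¹ * ι c : B) : L) := by
      show _ = ((↑u⁻¹ : B) : L) * algebraMap D L c
      rw [hc, map_mul, map_pow, ← mul_assoc, h0, one_mul]
    rw [h2]
    exact SetLike.coe_mem _
  let ψD : D →+* B := (algebraMap D L).codRestrict B.toSubring hmem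
  refine ⟨B, inferInstance, inferInstance, inferInstance, algebraMap A B, hloc, ψD.comp mk,
    RingHom.finite_algebraMap.2 inferInstance, RingHom.ext fun a => Subtype.ext
      (IsScalarTower.algebraMap_apply A D L a).symm, ?_⟩
  have hker : (maximalIdeal B).comap ψD = mD := by
    ext d
    obtain ⟨n, c, hc⟩ := hC d
    have h1 : ι c = ι r ^ n * ψD d := Subtype.ext (by
      show algebraMap D L c = algebraMap D L r.1 ^ n * algebraMap D L d
      rw [hc, map_mul, map_pow])
    have h2 : ψD d ∈ maximalIdeal B ↔ c ∈ (maximalIdeal B).comap ι := by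
      rw [Ideal.mem_comap, h1]
      exact ⟨fun h => Ideal.mul_mem_left _ _ h, fun h => ((IsLocalRing.maximalIdeal.isMaximal B).isPrime.mem_or_mem h).resolve_left
        fun h' => h' (hrB.pow n)⟩
    rw [Ideal.mem_comap, h2, hmC, Ideal.mem_comap]
    show (c : D) ∈ mD ↔ d ∈ mD
    rw [hc]
    exact ⟨fun h => ((Ideal.IsMaximal.isPrime ‹mD.IsMaximal›).mem_or_mem h).resolve_left fun h' =>
      hr ((Ideal.IsMaximal.isPrime ‹mD.IsMaximal›).mem_of_pow_mem _ h'), fun h => Ideal.mul_mem_left _ _ h⟩
  rw [← Ideal.comap_comap, hker, hmD]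

end Groth.Agent.UnivOpenFin5
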