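import Groth.Agent.Lib.EGA43Top.OpenCriterion
import Groth.Agent.Lib.QCGen12.Finite
import Mathlib.AlgebraicGeometry.ZariskisMainTheorem

/-!
Lifting of generizations after finite base changes.
-/

universe u

open CategoryTheory Limits AlgebraicGeometry Topology Groth.Agent.EGA43Top

set_option backward.isDefEq.respectTransparency.types false
set_option linter.style.haveILetI false

namespace Groth.Agent.UnivOpenFin5

variable {X Y : Scheme.{u}}

/-- generizations lift at the points over `z` after every finite base change -/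
def FinLifts (f : X ⟶ Y) (z : X) : Prop :=
  ∀ (Y' : Scheme.{u}) (g : Y' ⟶ Y) [IsFinite g] (z' : ↥(pullback f g)),
    pullback.fst f g z' = z → LiftsAt (pullback.snd f g) z'

/-- the condition along the generizations in the fibre -/
def FibFinLifts (f : X ⟶ Y) (x : X) : Prop := ∀ z, z ⤳ x → f z = f x → FinLifts f z

theorem liftsAt_of_isPullback {W Z V T : Scheme.{u}} {c : W ⟶ V} {b : W ⟶ Z} {h : V ⟶ T} {j : Z ⟶ T}
    (sq : IsPullback c b h j) [IsOpenImmersion j] {w : W} (hl : LiftsAt h (c w)) : LiftsAt b w := by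
  haveI : IsOpenImmersion c := MorphismProperty.of_isPullback sq.flip inferInstance
  intro y' hy
  have hy' : j y' ⤳ h (c w) := by
    rw [← Scheme.Hom.comp_apply, sq.w, Scheme.Hom.comp_apply]
    exact hy.map j.continuous
  obtain ⟨v, hv, hvy⟩ := hl _ hy'
  obtain ⟨p, hp1, hp2⟩ := Scheme.exists_preimage_of_isPullback sq v y' hvy
  exact ⟨p, c.isOpenEmbedding.isInducing.specializes_iff.1 (hp1.symm ▸ hv), hp2⟩

theorem liftsAt_comp_openImmersion {W V T : Scheme.{u}} (c : W ⟶ V) [IsOpenImmersion c] (h : V ⟶ T) {w : W}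
    (hl : LiftsAt h (c w)) : LiftsAt (c ≫ h) w := by
  intro y' hy
  rw [Scheme.Hom.comp_apply] at hy
  obtain ⟨v, hv, hvy⟩ := hl _ hy
  obtain ⟨p, rfl⟩ : v ∈ Set.range c := hv.mem_open c.isOpenEmbedding.isOpen_range ⟨w, rfl⟩
  exact ⟨p, c.isOpenEmbedding.isInducing.specializes_iff.1 hv, by rw [Scheme.Hom.comp_apply, hvy]⟩

/-- the condition applies to squares over maps factoring through a finite map -/
theorem FinLifts.apply {f : X ⟶ Y} {z : X} (H : FinLifts f z) {W Z T : Scheme.{u}} {a : W ⟶ X} {b : W ⟶ Z}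
    {g : Z ⟶ Y} (sq : IsPullback a b f g) (j : Z ⟶ T) [IsOpenImmersion j] (π : T ⟶ Y) [IsFinite π]
    (hjπ : j ≫ π = g) {w : W} (hw : a w = z) : LiftsAt b w := by
  let c : W ⟶ pullback f π := pullback.lift a (b ≫ j) (by rw [Category.assoc, hjπ, sq.w])
  have sqc : IsPullback c b (pullback.snd f π) j := by
    refine IsPullback.of_right ?_ (pullback.lift_snd _ _ _) (IsPullback.of_hasPullback f π)
    rw [show c ≫ pullback.fst f π = a from pullback.lift_fst _ _ _, hjπ]
    exact sq
  refine liftsAt_of_isPullback sqc (H T π (c w) ?_)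
  rw [← Scheme.Hom.comp_apply, pullback.lift_fst, hw]

theorem FinLifts.baseChange_finite {f : X ⟶ Y} {X₁ Y₁ : Scheme.{u}} {a : X₁ ⟶ X} {b : X₁ ⟶ Y₁} {g : Y₁ ⟶ Y}
    [IsFinite g] (sq : IsPullback a b f g) {z : X₁} (H : FinLifts f (a z)) : FinLifts b z := by
  intro Z g' _ z' hz'
  exact H.apply ((IsPullback.of_hasPullback b g').paste_horiz sq) (𝟙 Z) (g' ≫ g) (Category.id_comp _)
    (by rw [Scheme.Hom.comp_apply, hz'])

theorem FinLifts.baseChange_open [CompactSpace Y] [QuasiSeparatedSpace Y] {f : X ⟶ Y} {X₁ Y₁ : Scheme.{u}}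
    {a : X₁ ⟶ X} {b : X₁ ⟶ Y₁} {g : Y₁ ⟶ Y} [IsOpenImmersion g] [QuasiCompact g]
    (sq : IsPullback a b f g) {z : X₁} (H : FinLifts f (a z)) : FinLifts b z := by
  intro Z g' _ z' hz'
  let h := g' ≫ g
  haveI : CompactSpace Z := QuasiCompact.compactSpace_of_compactSpace h
  haveI : LocallyQuasiFinite h := inferInstanceAs (LocallyQuasiFinite (g' ≫ g))
  haveI : IsSeparated h := inferInstanceAs (IsSeparated (g' ≫ g))
  haveI : QuasiCompact h := inferInstanceAs (QuasiCompact (g' ≫ g))
  haveI : LocallyOfFiniteType h := inferInstanceAs (LocallyOfFiniteType (g' ≫ g))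
  let P : h.normalization.Opens := h.toNormalization.opensRange
  have hP : IsCompact (P : Set h.normalization) := isCompact_range h.toNormalization.continuous
  let e : Z ≅ P.toScheme := h.toNormalization.isoOpensRange
  have he : e.hom ≫ P.ι ≫ h.fromNormalization = h := by
    rw [← Category.assoc, Scheme.Hom.isoOpensRange_hom_ι, Scheme.Hom.toNormalization_fromNormalization]
  haveI : LocallyOfFiniteType (P.ι ≫ h.fromNormalization) := by
    rw [← MorphismProperty.cancel_left_of_respectsIso @LocallyOfFiniteType e.hom, he]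
    infer_instance
  obtain ⟨T, j, π, hj, hπ, hjπ⟩ := QCGen12.exists_finite_factor h.fromNormalization P hP
  exact H.apply ((IsPullback.of_hasPullback b g').paste_horiz sq) (e.hom ≫ j) π
    (by rw [Category.assoc, hjπ, he]) (by rw [Scheme.Hom.comp_apply, hz'])

theorem FinLifts.comp_openImmersion {f : X ⟶ Y} {U : Scheme.{u}} (i : U ⟶ X) [IsOpenImmersion i] {z : U}
    (H : FinLifts f (i z)) : FinLifts (i ≫ f) z := by
  intro Z g _ z' hz'
  let c : pullback (i ≫ f) g ⟶ pullback f g :=
    pullback.lift (pullback.fst _ _ ≫ i) (pullback.snd _ _) (by rw [Category.assoc, pullback.condition])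
  have sq : IsPullback c (pullback.fst (i ≫ f) g) (pullback.fst f g) i := by
    refine IsPullback.of_right ?_ (pullback.lift_fst _ _ _) (IsPullback.of_hasPullback f g).flip
    rw [show c ≫ pullback.snd f g = pullback.snd (i ≫ f) g from pullback.lift_snd _ _ _]
    exact (IsPullback.of_hasPullback (i ≫ f) g).flip
  haveI : IsOpenImmersion c := MorphismProperty.of_isPullback sq.flip inferInstance
  rw [show pullback.snd (i ≫ f) g = c ≫ pullback.snd f g from (pullback.lift_snd _ _ _).symm]
  refine liftsAt_comp_openImmersion c _ (H Z g (c z') ?_)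
  rw [← Scheme.Hom.comp_apply, pullback.lift_fst, Scheme.Hom.comp_apply, hz']

theorem FibFinLifts.map {f : X ⟶ Y} {X₁ Y₁ : Scheme.{u}} {a : X₁ ⟶ X} {b : X₁ ⟶ Y₁} {g : Y₁ ⟶ Y}
    (hw : a ≫ f = b ≫ g) {x : X₁} (H : FibFinLifts f (a x))
    (hstep : ∀ z, FinLifts f (a z) → FinLifts b z) : FibFinLifts b x := fun z hz hbz =>
  hstep z (H _ (hz.map a.continuous) (by
    rw [← Scheme.Hom.comp_apply, ← Scheme.Hom.comp_apply, hw, Scheme.Hom.comp_apply, hbz, Scheme.Hom.comp_apply]))

end Groth.Agent.UnivOpenFin5
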