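import Groth.Agent.Lib.UnivOpenFin5.Basic
import Groth.Agent.Lib.UnivOpenFin5.Normal
import Groth.Agent.Lib.Unibr4.Criterion
import Groth.Agent.Lib.FibDim14.BaseChange
import Mathlib.RingTheory.IntegralClosure.IntegralRestrict

/-!
Openness after finite base changes gives universal openness over a Noetherian domain.
-/

universe u

open CategoryTheory Limits AlgebraicGeometry Topology Groth.Agent.FibDim14 Groth.Agent.EGA43Top

set_option backward.isDefEq.respectTransparency.types false
set_option linter.style.haveILetI false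

namespace Groth.Agent.UnivOpenFin5

/-- maximal points of a fibre are finite in number -/
theorem finite_isMaxFib {X Y : Scheme.{u}} (f : X ⟶ Y) [LocallyOfFiniteType f] [QuasiCompact f] (y : Y) :
    {t : X | f t = y ∧ IsMaxFib f t}.Finite := by
  haveI : IsLocallyNoetherian (f.fiber y) := LocallyOfFiniteType.isLocallyNoetherian (toPt f y)
  haveI : QuasiCompact (toPt f y) := MorphismProperty.pullback_snd _ _ inferInstance
  haveI : CompactSpace (f.fiber y) := QuasiCompact.compactSpace_of_compactSpace (toPt f y)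
  haveI : IsNoetherian (f.fiber y) := {}
  have hfin : {z : f.fiber y | ∀ z', z' ⤳ z → z' = z}.Finite := by
    refine Set.Finite.of_finite_image (f := fun z => closure {z}) ?_ fun a _ b _ h => ?_
    · exact (TopologicalSpace.NoetherianSpace.finite_irreducibleComponents (α := f.fiber y)).subset
        (by rintro _ ⟨z, hz, rfl⟩; exact (VarDim.maximal_iff_mem_irreducibleComponents z).1 hz)
    · have h : closure ({a} : Set (f.fiber y)) = closure {b} := h
      have hb : b ∈ closure ({a} : Set (f.fiber y)) := by rw [h]; exact subset_closure rfl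
      have ha : a ∈ closure ({b} : Set (f.fiber y)) := by rw [← h]; exact subset_closure rfl
      exact ((specializes_iff_mem_closure.2 hb).antisymm (specializes_iff_mem_closure.2 ha)).eq
  refine (hfin.image (f.fiberι y)).subset fun t ht => ?_
  obtain ⟨z, rfl⟩ : t ∈ Set.range (f.fiberι y) := by
    rw [f.range_fiberι]
    exact ht.1
  exact ⟨z, (isMaxFib_fiberι f y z).1 ht.2, rfl⟩

/-- a finite algebra gives a finite base map -/
theorem isFinite_baseMap (R T : Type u) [CommRing R] [CommRing T] [Algebra R T] [Module.Finite R T] :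
    IsFinite (DVRVal.baseMap R T (𝟙 (Spec (CommRingCat.of R)))) := by
  show IsFinite (Spec.map (CommRingCat.ofHom (algebraMap R T)) ≫ 𝟙 _)
  rw [Category.comp_id, IsFinite.SpecMap_iff]
  exact RingHom.finite_algebraMap.2 ‹_›

/-- an integral algebra gives an integral base map -/
theorem isIntegralHom_baseMap (R T : Type u) [CommRing R] [CommRing T] [Algebra R T] [Algebra.IsIntegral R T] :
    IsIntegralHom (DVRVal.baseMap R T (𝟙 (Spec (CommRingCat.of R)))) := by
  show IsIntegralHom (Spec.map (CommRingCat.ofHom (algebraMap R T)) ≫ 𝟙 _)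
  rw [Category.comp_id, IsIntegralHom.SpecMap_iff]
  exact algebraMap_isIntegral_iff.2 inferInstance

set_option maxHeartbeats 1000000 in
/-- openness after finite base change gives universal openness over a Noetherian domain -/
theorem isUnivOpenAt_of_domain {X : Scheme.{u}} (R : Type u) [CommRing R] [IsDomain R] [IsNoetherianRing R]
    (f : X ⟶ Spec (CommRingCat.of R)) [LocallyOfFiniteType f] [QuasiCompact f] (x : X) (H : FibFinLifts f x) :
    EGA43.IsUnivOpenAt f x := by
  classical
  let j : Spec (CommRingCat.of R) ⟶ Spec (CommRingCat.of R) := 𝟙 _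
  let B := integralClosure R (FractionRing R)
  haveI : IsIntegrallyClosed B := integralClosure.isIntegrallyClosedOfFiniteExtension (FractionRing R)
  have hinjR : Function.Injective (algebraMap R B) := fun a b h =>
    IsFractionRing.injective R (FractionRing R) (congrArg Subtype.val h)
  let v : Spec (CommRingCat.of B) ⟶ Spec (CommRingCat.of R) := DVRVal.baseMap R B j
  haveI : IsIntegralHom v := isIntegralHom_baseMap R B
  haveI : Surjective v := by
    show Surjective (Spec.map (CommRingCat.ofHom (algebraMap R B)) ≫ 𝟙 _)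
    rw [Category.comp_id]
    exact ⟨(algebraMap_isIntegral_iff.2 inferInstance).comap_surjective hinjR⟩
  refine isUnivOpenAt_of_universallyClosed_surjective v f x fun x₁ hx₁ => ?_
  let fb := pullback.snd f v
  let n : Spec (CommRingCat.of B) := fb x₁
  haveI : IrreducibleSpace (Spec (CommRingCat.of B)) := inferInstanceAs (IrreducibleSpace (PrimeSpectrum B))
  obtain ⟨z₁, hz₁, hfz₁, hmax₁, hd₁⟩ := FibGen4.exists_isMaxFib fb x₁
  let z := pullback.fst f v z₁
  have hz : FinLifts f z := H z (hx₁ ▸ hz₁.map (pullback.fst f v).continuous) (by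
    have h : ∀ w, f (pullback.fst f v w) = v (fb w) := fun w => by
      rw [← Scheme.Hom.comp_apply, pullback.condition, Scheme.Hom.comp_apply]
    rw [h, hfz₁, ← h, hx₁])
  let η : Spec (CommRingCat.of B) := (⟨⊥, Ideal.isPrime_bot⟩ : PrimeSpectrum B)
  suffices key : ∃ τ, fb τ = η ∧ IsMaxFib fb τ ∧ τ ⤳ z₁ ∧ rd fb z₁ ≤ rd fb τ by
    obtain ⟨τ, hτη, -, hτz, hrd⟩ := key
    refine Unibr4.isUnivOpenAt fb x₁ τ (Or.inr inferInstance) (isGeomUnibranch_stalk (CommRingCat.of B) _)
      (hτz.trans hz₁) (fun y hy => ?_) ?_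
    · rw [hτη] at hy ⊢
      exact (hy.antisymm ((PrimeSpectrum.le_iff_specializes η y).1 bot_le)).eq
    · rw [← hd₁, FibGen4.fibreDimAt_eq_rd_of_isMaxFib fb hmax₁]
      exact_mod_cast hrd
  by_contra hno
  push Not at hno
  let M := {t | fb t = η ∧ IsMaxFib fb t ∧ rd fb z₁ ≤ rd fb t}
  have hM : M.Finite := (finite_isMaxFib fb η).subset fun t ht => ⟨ht.1, ht.2.1⟩
  -- a stage separating `z₁` from each candidate
  have hsep : ∀ t ∈ M, ∃ s : Finset B, ∀ B' : Subalgebra R B, (s : Set B) ⊆ B' →
      ¬ DVRVal.transMap f j B' t ⤳ DVRVal.transMap f j B' z₁ := by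
    intro t ht
    have hts : ¬ t ⤳ z₁ := fun h => (hno t ht.1 ht.2.1 h).not_ge ht.2.2
    let W : (pullback f v).Opens := ⟨(closure {t})ᶜ, isClosed_closure.isOpen_compl⟩
    obtain ⟨s, N, hzN, hs⟩ := DVRVal.exists_descend_nhd f j z₁ W (fun h => hts (specializes_iff_mem_closure.2 h))
    refine ⟨s, fun B' hB' hsp => ?_⟩
    obtain ⟨W', hW', hWW⟩ := hs B' hB' z₁ hzN
    exact hWW t (hsp.mem_open W'.2 hW') (subset_closure rfl)
  choose s hs using hsep
  let S₀ : Finset B := hM.toFinset.attach.biUnion fun t => s t.1 (hM.mem_toFinset.1 t.2)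
  let B' : Subalgebra R B := Algebra.adjoin R (S₀ : Set B)
  haveI : Module.Finite R B' := Module.Finite.iff_fg.2
    (fg_adjoin_of_finite S₀.finite_toSet fun b _ => Algebra.IsIntegral.isIntegral b)
  let v' := DVRVal.baseMap R B' j
  haveI : IsFinite v' := isFinite_baseMap R B'
  let p := DVRVal.transMap f j B'
  have hsq := DVRVal.isPullback_transMap f j B'
  let f' := pullback.snd f v'
  have hpz : pullback.fst f v' (p z₁) = z := by
    show pullback.fst f v' (p z₁) = pullback.fst f v z₁
    rw [← Scheme.Hom.comp_apply,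
      show p ≫ pullback.fst f v' = pullback.fst f v from (pullback.lift_fst _ _ _).trans (Category.comp_id _)]
  have hlift := hz _ v' (p z₁) hpz
  haveI : IsNoetherianRing B' := IsNoetherianRing.of_finite R B'
  let η' : Spec (CommRingCat.of B') := (⟨⊥, Ideal.isPrime_bot⟩ : PrimeSpectrum B')
  have hηη : DVRVal.toSub B' η = η' := PrimeSpectrum.ext (Ideal.comap_bot_of_injective _ Subtype.val_injective)
  obtain ⟨t, htz, htmax, hft, hrd⟩ := Unibr4.exists_component_of_liftsAt f' hlift
    (η := η') ((PrimeSpectrum.le_iff_specializes η' _).1 (show (⊥ : Ideal _) ≤ _ from bot_le))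
    (fun y hy => (hy.antisymm ((PrimeSpectrum.le_iff_specializes _ y).1 (show (⊥ : Ideal _) ≤ y.asIdeal from bot_le))).eq)
  obtain ⟨τ₀, hτ₀, hfτ₀⟩ := Scheme.exists_preimage_of_isPullback hsq t η (hft.trans hηη.symm)
  obtain ⟨τ, hτ, hfτ, hτmax, hτd⟩ := FibGen4.exists_isMaxFib fb τ₀
  have hpτ : p τ = t := htmax _ (hτ₀ ▸ hτ.map p.continuous)
  have htM : τ ∈ M := by
    refine ⟨hfτ.trans hfτ₀, hτmax, ?_⟩
    have h1 : rd fb z₁ ≤ rd f' (p z₁) := rd_baseChange_le hsq z₁
    have h2 : (rd f' t : WithBot ℕ∞) ≤ (rd fb τ : WithBot ℕ∞) := by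
      rw [← FibGen4.fibreDimAt_eq_rd_of_isMaxFib fb hτmax, fibreDimAt_baseChange hsq τ, ← hpτ]
      exact rd_le_fibreDimAt f' specializes_rfl rfl
    exact (h1.trans hrd).trans (by exact_mod_cast h2)
  refine hs τ htM B' (fun b hb => Algebra.subset_adjoin ?_) ?_
  · exact Finset.mem_biUnion.2 ⟨⟨τ, hM.mem_toFinset.2 htM⟩, Finset.mem_attach _ _, hb⟩
  · show p τ ⤳ p z₁
    rw [hpτ]
    exact htz

end Groth.Agent.UnivOpenFin5
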