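import Groth.Agent.Lib.UnivOpenFin5.DVRPoint
import Groth.Agent.Lib.UnivOpenFin5.DVRExt
import Groth.Agent.Lib.EGA43Top.DVROpen

/-!
Universal openness and lifting of points over complete discrete valuation rings.
-/

universe u

open CategoryTheory Limits AlgebraicGeometry IsLocalRing Groth.Agent.EGA43Top

set_option backward.isDefEq.respectTransparency.types false
set_option linter.style.haveILetI false

namespace Groth.Agent.UnivOpenFin5

variable {X Y : Scheme.{u}}

theorem exists_lift_of_isUnivOpenAt (f : X ⟶ Y) [LocallyOfFiniteType f] {x : X} (h : EGA43.IsUnivOpenAt f x)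
    (A : Type u) [CommRing A] [IsDomain A] [IsDiscreteValuationRing A] [IsAdicComplete (maximalIdeal A) A]
    (g : Spec (CommRingCat.of A) ⟶ Y) (u₀ : Spec (CommRingCat.of (ResidueField A)) ⟶ X)
    (hu : u₀ ≫ f = Spec.map (CommRingCat.ofHom (residue A)) ≫ g) (hx : x ∈ Set.range u₀) :
    ∃ (B : CommRingCat.{u}) (_ : IsDomain B) (_ : IsDiscreteValuationRing B) (φ : A →+* B)
      (_ : IsLocalHom φ) (v : Spec B ⟶ X),
      φ.Finite ∧ v ≫ f = Spec.map (CommRingCat.ofHom φ) ≫ g ∧
      Spec.map (CommRingCat.ofHom (ResidueField.map φ)) ≫ u₀ =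
        Spec.map (CommRingCat.ofHom (residue B)) ≫ v := by
  obtain ⟨pt, hpt⟩ := hx
  let u' : Spec (CommRingCat.of (ResidueField A)) ⟶ pullback f g := pullback.lift u₀ _ hu
  let xA := u' pt
  haveI : LocallyOfFiniteType (pullback.snd f g) := MorphismProperty.pullback_snd _ _ inferInstance
  obtain ⟨z, hz, hzb⟩ := exists_generization_of_isUnivOpenAt (A := A) h g xA (by
    rw [show xA = u' pt from rfl, ← Scheme.Hom.comp_apply, pullback.lift_fst]; exact hpt)
  obtain ⟨U, hU, hxU, -⟩ := exists_isAffineOpen_mem_and_subset (X := pullback f g) (x := xA) (U := ⊤) trivial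
  have hzU : z ∈ U := hz.mem_open U.2 hxU
  let k : CommRingCat.of A ⟶ Γ(pullback f g, U) := Spec.preimage (hU.fromSpec ≫ pullback.snd f g)
  have hk : Spec.map k = hU.fromSpec ≫ pullback.snd f g := Spec.map_preimage _
  letI : Algebra A Γ(pullback f g, U) := k.hom.toAlgebra
  haveI : LocallyOfFiniteType (Spec.map k) := by rw [hk]; infer_instance
  haveI : Algebra.FiniteType A Γ(pullback f g, U) :=
    (HasRingHomProperty.Spec_iff (P := @LocallyOfFiniteType)).1 ‹LocallyOfFiniteType (Spec.map k)›
  have hrange : Set.range u' ⊆ Set.range hU.fromSpec := by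
    rw [hU.range_fromSpec]
    rintro _ ⟨q, rfl⟩
    rwa [show q = pt from Subsingleton.elim (α := PrimeSpectrum (ResidueField A)) q pt]
  let u'' := IsOpenImmersion.lift hU.fromSpec u' hrange
  let χ : Γ(pullback f g, U) ⟶ CommRingCat.of (ResidueField A) := Spec.preimage u''
  have hχ : Spec.map χ = u'' := Spec.map_preimage _
  have hkχ : k ≫ χ = CommRingCat.ofHom (residue A) := Spec.map_injective (by
    rw [Spec.map_comp, hk, hχ, IsOpenImmersion.lift_fac_assoc, pullback.lift_snd])
  have hχs : Function.Surjective χ.hom := fun w => by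
    obtain ⟨a, rfl⟩ := residue_surjective w
    exact ⟨k a, congrArg (fun q => q.hom a) hkχ⟩
  let m : Ideal Γ(pullback f g, U) := RingHom.ker χ.hom
  haveI : m.IsMaximal := RingHom.ker_isMaximal_of_surjective _ hχs
  have hmA : m.comap (algebraMap A Γ(pullback f g, U)) = maximalIdeal A := by
    rw [RingHom.algebraMap_toAlgebra, show m = RingHom.ker χ.hom from rfl, RingHom.comap_ker,
      ← CommRingCat.hom_comp, hkχ]
    exact IsLocalRing.ker_residue
  let P := hU.primeIdealOf ⟨z, hzU⟩
  haveI := P.2
  have hPm : P.asIdeal ≤ m := by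
    have h1 : hU.fromSpec P = z := hU.fromSpec_primeIdealOf ⟨z, hzU⟩
    have h2 : hU.fromSpec (Spec.map χ pt) = xA := by
      rw [hχ, ← Scheme.Hom.comp_apply, IsOpenImmersion.lift_fac]
    have h3 : P ⤳ Spec.map χ pt := hU.fromSpec.isOpenEmbedding.isInducing.specializes_iff.1 (by
      rw [h1, h2]
      exact hz)
    refine (show P.asIdeal ≤ (Spec.map χ pt).asIdeal from (PrimeSpectrum.le_iff_specializes _ _).2 h3).trans ?_
    show pt.asIdeal.comap χ.hom ≤ m
    rw [show pt.asIdeal = ⊥ from (Ideal.eq_bot_or_top pt.asIdeal).resolve_right pt.2.ne_top]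
    exact le_of_eq rfl
  have hP : P.asIdeal.comap (algebraMap A Γ(pullback f g, U)) = ⊥ := by
    have h1 : Spec.map k P = (⟨⊥, Ideal.isPrime_bot⟩ : PrimeSpectrum A) := by
      rw [hk, Scheme.Hom.comp_apply, hU.fromSpec_primeIdealOf]
      exact hzb
    exact congrArg PrimeSpectrum.asIdeal h1
  obtain ⟨B, _, _, _, φ, hφl, ψ, hfin, hψ, hm⟩ := exists_dvr_point A Γ(pullback f g, U) m hmA P.asIdeal hPm hP
  let w : Spec (CommRingCat.of B) ⟶ pullback f g := Spec.map (CommRingCat.ofHom ψ) ≫ hU.fromSpec
  have hw : w ≫ pullback.snd f g = Spec.map (CommRingCat.ofHom φ) := by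
    rw [Category.assoc, ← hk, ← Spec.map_comp]
    exact congrArg Spec.map (CommRingCat.hom_ext hψ)
  refine ⟨CommRingCat.of B, ‹IsDomain B›, ‹IsDiscreteValuationRing B›, φ, hφl, w ≫ pullback.fst f g, hfin,
    by rw [Category.assoc, pullback.condition, reassoc_of% hw], ?_⟩
  have hres : χ ≫ CommRingCat.ofHom (ResidueField.map φ) = CommRingCat.ofHom ((residue B).comp ψ) := by
    refine CommRingCat.hom_ext (RingHom.ext fun s => ?_)
    obtain ⟨a, ha⟩ := residue_surjective (χ.hom s)
    have h1 : s - k a ∈ m := by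
      rw [RingHom.mem_ker, map_sub, show χ.hom (k a) = residue A a from congrArg (fun q => q.hom a) hkχ, ha, sub_self]
    rw [← hm, Ideal.mem_comap, map_sub, show ψ (k a) = φ a from RingHom.congr_fun hψ a] at h1
    show ResidueField.map φ (χ.hom s) = residue B (ψ s)
    rw [← ha, ResidueField.map_residue]
    exact ((Ideal.Quotient.eq (I := maximalIdeal B)).2 h1).symm
  calc Spec.map (CommRingCat.ofHom (ResidueField.map φ)) ≫ u₀
      = (Spec.map (CommRingCat.ofHom (ResidueField.map φ)) ≫ Spec.map χ) ≫ hU.fromSpec ≫ pullback.fst f g := by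
        rw [hχ, Category.assoc, IsOpenImmersion.lift_fac_assoc, pullback.lift_fst]
    _ = Spec.map (CommRingCat.ofHom (residue B)) ≫ w ≫ pullback.fst f g := by
        rw [← Spec.map_comp, hres, CommRingCat.ofHom_comp, Spec.map_comp]
        simp only [w, Category.assoc]

theorem isUnivOpenAt_of_dvr_lifts [IsLocallyNoetherian Y] (f : X ⟶ Y) [LocallyOfFiniteType f] (x : X)
    (H : ∀ (A : Type u) [CommRing A] [IsDomain A] [IsDiscreteValuationRing A]
        [IsAdicComplete (maximalIdeal A) A] [IsAlgClosed (ResidueField A)]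
        (g : Spec (CommRingCat.of A) ⟶ Y), g (closedPoint A) = f x →
        ∀ u₀ : Spec (CommRingCat.of (ResidueField A)) ⟶ X,
          u₀ ≫ f = Spec.map (CommRingCat.ofHom (residue A)) ≫ g → x ∈ Set.range u₀ →
          ∃ (B : CommRingCat.{u}) (_ : IsDomain B) (_ : IsDiscreteValuationRing B) (φ : A →+* B)
            (_ : IsLocalHom φ) (v : Spec B ⟶ X),
            φ.Finite ∧ v ≫ f = Spec.map (CommRingCat.ofHom φ) ≫ g ∧
            Spec.map (CommRingCat.ofHom (ResidueField.map φ)) ≫ u₀ =
              Spec.map (CommRingCat.ofHom (residue B)) ≫ v) :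
    EGA43.IsUnivOpenAt f x := by
  refine isUnivOpenAt_of_dvr f x fun A _ _ _ g hg x' hx' hxc => ?_
  let K := AlgebraicClosure ((pullback f g).residueField x')
  let u' : Spec (CommRingCat.of K) ⟶ pullback f g :=
    Spec.map (CommRingCat.ofHom (algebraMap ((pullback f g).residueField x') K)) ≫
      (pullback f g).fromSpecResidueField x'
  have hu' : ∀ q, u' q = x' := fun q => by
    rw [Scheme.Hom.comp_apply]
    exact Scheme.fromSpecResidueField_apply _ _
  let χ : CommRingCat.of A ⟶ CommRingCat.of K := Spec.preimage (u' ≫ pullback.snd f g)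
  have hχ : Spec.map χ = u' ≫ pullback.snd f g := Spec.map_preimage _
  have hker : RingHom.ker χ.hom = maximalIdeal A := by
    have h1 : Spec.map χ (⟨⊥, Ideal.isPrime_bot⟩ : PrimeSpectrum K) = closedPoint A := by
      rw [hχ, Scheme.Hom.comp_apply, hu', hxc]
    have h2 : Ideal.comap χ.hom ⊥ = maximalIdeal A := congrArg PrimeSpectrum.asIdeal h1
    rwa [← RingHom.ker_eq_comap_bot] at h2
  obtain ⟨A', _, _, _, _, φ, hφl, ψ, hφi, hψs, hψk, hψφ⟩ := exists_complete_dvr_ext A K χ.hom hker
  let e : ResidueField A' ≃+* K :=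
    (Ideal.quotEquivOfEq hψk.symm).trans (RingHom.quotientKerEquivOfSurjective hψs)
  have he : e.toRingHom.comp (residue A') = ψ := RingHom.ext fun a => rfl
  haveI : IsAlgClosed (ResidueField A') := IsAlgClosed.of_ringEquiv K (ResidueField A') e.symm
  let g' := Spec.map (CommRingCat.ofHom φ) ≫ g
  let u₀ : Spec (CommRingCat.of (ResidueField A')) ⟶ X :=
    Spec.map (CommRingCat.ofHom e.symm.toRingHom) ≫ u' ≫ pullback.fst f g
  have he' : CommRingCat.ofHom φ ≫ CommRingCat.ofHom (residue A') = χ ≫ CommRingCat.ofHom e.symm.toRingHom :=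
    CommRingCat.hom_ext (RingHom.ext fun a => by
      show residue A' (φ a) = e.symm (χ.hom a)
      rw [← hψφ, RingEquiv.eq_symm_apply]
      rfl)
  have hu₀ : u₀ ≫ f = Spec.map (CommRingCat.ofHom (residue A')) ≫ g' := by
    simp only [u₀, g', Category.assoc, pullback.condition]
    rw [← Category.assoc u', ← hχ, ← Category.assoc, ← Spec.map_comp, ← he', Spec.map_comp, Category.assoc]
  have hg' : g' (closedPoint A') = f x := by
    rw [Scheme.Hom.comp_apply, show Spec.map (CommRingCat.ofHom φ) (closedPoint A') = closedPoint A from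
      IsLocalRing.comap_closedPoint φ, hg]
  obtain ⟨B, _, _, φB, hφB, v, hfin, hv, hres⟩ := H A' g' hg' u₀ hu₀
    ⟨(⟨⊥, Ideal.isPrime_bot⟩ : PrimeSpectrum (ResidueField A')), by
      show pullback.fst f g (u' _) = x
      rw [hu', hx']⟩
  let w : Spec B ⟶ pullback f g := pullback.lift v (Spec.map (CommRingCat.ofHom (φB.comp φ))) (by
    rw [hv, CommRingCat.ofHom_comp, Spec.map_comp, Category.assoc])
  have hwres : Spec.map (CommRingCat.ofHom (residue B)) ≫ w =
      Spec.map (CommRingCat.ofHom ((ResidueField.map φB).comp e.symm.toRingHom)) ≫ u' := by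
    refine pullback.hom_ext ?_ ?_
    · rw [Category.assoc, pullback.lift_fst, ← hres, CommRingCat.ofHom_comp, Spec.map_comp, Category.assoc,
        Category.assoc]
    · rw [Category.assoc, pullback.lift_snd, Category.assoc, ← hχ, ← Spec.map_comp, ← Spec.map_comp]
      refine congrArg Spec.map (CommRingCat.hom_ext (RingHom.ext fun a => ?_))
      show residue B (φB (φ a)) = ResidueField.map φB (e.symm (χ.hom a))
      rw [show e.symm (χ.hom a) = residue A' (φ a) from (congrArg (fun q => q.hom a) he').symm,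
        ResidueField.map_residue]
  let b : PrimeSpectrum B := ⟨⊥, Ideal.isPrime_bot⟩
  refine ⟨w b, ?_, fun hc => ?_⟩
  · have h1 := congrArg (fun q => q (⟨⊥, Ideal.isPrime_bot⟩ : PrimeSpectrum (ResidueField B))) hwres
    simp only [Scheme.Hom.comp_apply] at h1
    rw [hu'] at h1
    rw [← h1]
    exact ((PrimeSpectrum.le_iff_specializes b _).1 bot_le).map w.continuous
  · rw [← Scheme.Hom.comp_apply, pullback.lift_snd] at hc
    have h2 : Ideal.comap (φB.comp φ) ⊥ = maximalIdeal A := congrArg PrimeSpectrum.asIdeal hc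
    have hinj : Function.Injective φB := by
      rw [RingHom.injective_iff_ker_eq_bot]
      by_contra hne
      haveI : (RingHom.ker φB).IsPrime := RingHom.ker_isPrime _
      haveI : (RingHom.ker φB).IsMaximal := Ideal.IsPrime.isMaximal inferInstance hne
      letI : Algebra A' B := φB.toAlgebra
      letI : Algebra (A' ⧸ RingHom.ker φB) B := (RingHom.kerLift φB).toAlgebra
      letI := Ideal.Quotient.field (RingHom.ker φB)
      haveI : IsScalarTower A' (A' ⧸ RingHom.ker φB) B := IsScalarTower.of_algebraMap_eq fun _ => rfl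
      haveI : Module.Finite A' B := hfin
      haveI : Module.Finite (A' ⧸ RingHom.ker φB) B := Module.Finite.of_restrictScalars_finite A' _ _
      exact IsDiscreteValuationRing.not_isField B
        (isField_of_isIntegral_of_isField' (R := A' ⧸ RingHom.ker φB) (Field.toIsField _))
    rw [← RingHom.ker_eq_comap_bot, (RingHom.injective_iff_ker_eq_bot (φB.comp φ)).1 (hinj.comp hφi)] at h2
    exact IsDiscreteValuationRing.not_isField A (IsLocalRing.isField_iff_maximalIdeal_eq.2 h2.symm)

end Groth.Agent.UnivOpenFin5
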