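import Groth.Agent.Lib.UnivOpenFin5.Core
import Groth.Agent.S4929

/-!
Openness after finite base changes gives universal openness over a Noetherian scheme.
-/

universe u

open CategoryTheory Limits AlgebraicGeometry Topology Groth.Agent.EGA43Top

set_option backward.isDefEq.respectTransparency.types false
set_option linter.style.haveILetI false

namespace Groth.Agent.UnivOpenFin5

/-- the affine Noetherian case -/
theorem isUnivOpenAt_of_affine {X : Scheme.{u}} (R : Type u) [CommRing R] [IsNoetherianRing R]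
    (f : X ⟶ Spec (CommRingCat.of R)) [LocallyOfFiniteType f] [QuasiCompact f] (x : X) (H : FibFinLifts f x) :
    EGA43.IsUnivOpenAt f x := by
  haveI : Finite ↥(minimalPrimes R) := (Ideal.finite_minimalPrimes_of_isNoetherianRing R ⊥).to_subtype
  let g : ∀ p : ↥(minimalPrimes R), Spec (CommRingCat.of (R ⧸ p.1)) ⟶ Spec (CommRingCat.of R) := fun p =>
    Spec.map (CommRingCat.ofHom (Ideal.Quotient.mk p.1))
  haveI : ∀ p, IsClosedImmersion (g p) := fun p =>
    IsClosedImmersion.spec_of_surjective _ Ideal.Quotient.mk_surjective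
  refine Groth.Agent.S4929.result f x _ g ?_ fun p x' hx' => ?_
  · refine Set.eq_univ_of_forall fun q => ?_
    haveI : (q : PrimeSpectrum R).asIdeal.IsPrime := (q : PrimeSpectrum R).2
    obtain ⟨m, hm, hmq⟩ := Ideal.exists_minimalPrimes_le (I := (⊥ : Ideal R))
      (J := (q : PrimeSpectrum R).asIdeal) bot_le
    refine Set.mem_iUnion.2 ⟨⟨m, hm⟩, ?_⟩
    show q ∈ Set.range (PrimeSpectrum.comap (Ideal.Quotient.mk m))
    rw [range_comap_of_surjective _ _ Ideal.Quotient.mk_surjective, Ideal.mk_ker]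
    exact hmq
  · haveI : p.1.IsPrime := p.2.1.1
    haveI : LocallyOfFiniteType (pullback.snd f (g p)) := MorphismProperty.pullback_snd _ _ inferInstance
    haveI : QuasiCompact (pullback.snd f (g p)) := MorphismProperty.pullback_snd _ _ inferInstance
    refine isUnivOpenAt_of_domain (R ⧸ p.1) _ x' (FibFinLifts.map pullback.condition (hx' ▸ H) fun z hz => ?_)
    exact hz.baseChange_finite (IsPullback.of_hasPullback f (g p))

/-- openness after finite base changes gives universal openness -/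
theorem isUnivOpenAt_of_finite {X Y : Scheme.{u}} [IsNoetherian Y] (f : X ⟶ Y) [LocallyOfFiniteType f] (x : X)
    (H : FibFinLifts f x) : EGA43.IsUnivOpenAt f x := by
  obtain ⟨V, hV, hxV, -⟩ := exists_isAffineOpen_mem_and_subset (X := Y) (x := f x) (U := ⊤) trivial
  obtain ⟨U, hU, hxU, hle⟩ := exists_isAffineOpen_mem_and_subset (U := f ⁻¹ᵁ V) (x := x) hxV
  haveI : IsAffine V.toScheme := hV
  haveI : IsAffine U.toScheme := hU
  haveI : IsNoetherianRing Γ(Y, V) := IsLocallyNoetherian.component_noetherian ⟨V, hV⟩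
  let φ := f.resLE V U hle
  haveI : LocallyOfFiniteType φ := by
    show LocallyOfFiniteType (f.resLE V U _)
    delta Scheme.Hom.resLE; infer_instance
  have H1 : FibFinLifts (f ∣_ V) (⟨x, hle hxU⟩ : (f ⁻¹ᵁ V).toScheme) :=
    FibFinLifts.map (isPullback_morphismRestrict f V).flip.w H fun z hz =>
      hz.baseChange_open (isPullback_morphismRestrict f V).flip
  have H2 : FibFinLifts φ ⟨x, hxU⟩ := by
    refine FibFinLifts.map (a := X.homOfLE hle) (g := 𝟙 _) (b := φ) (by rw [Category.comp_id]; rfl) ?_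
      fun z hz => hz.comp_openImmersion (X.homOfLE hle)
    convert H1
    exact Subtype.ext (congrArg (fun k : U.toScheme ⟶ X => k ⟨x, hxU⟩) (X.homOfLE_ι hle))
  let ψ : U.toScheme ⟶ Spec (CommRingCat.of Γ(Y, V)) := φ ≫ hV.isoSpec.hom
  haveI : QuasiCompact ψ := inferInstance
  have H3 : FibFinLifts ψ ⟨x, hxU⟩ :=
    FibFinLifts.map (a := 𝟙 _) (g := hV.isoSpec.inv) (b := ψ) (f := φ) (by simp [ψ]) H2 fun z hz =>
      FinLifts.baseChange_finite (a := 𝟙 _) (g := hV.isoSpec.inv) (f := φ)
        (IsPullback.of_horiz_isIso ⟨by simp [ψ]⟩) hz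
  have h1 := isUnivOpenAt_of_affine Γ(Y, V) ψ ⟨x, hxU⟩ H3
  have h2 : EGA43.IsUnivOpenAt (ψ ≫ hV.fromSpec) ⟨x, hxU⟩ :=
    isUnivOpenAt_comp h1 (Unibr4.isUnivOpenAt_of_universallyOpen _ _)
  have e : ψ ≫ hV.fromSpec = U.ι ≫ f := by
    simp only [ψ, Category.assoc, IsAffineOpen.isoSpec_hom_fromSpec, φ, Scheme.Hom.resLE_comp_ι]
  rw [e] at h2
  exact isUnivOpenAt_of_comp h2

end Groth.Agent.UnivOpenFin5
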